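import Groth.Agent.ResProp.EF.K499.EndOne
import Groth.Agent.ResProp.EF.K772.AdmInv

/-!
# Reduction modulo `p` along an algebra retraction modulo nat (block G2b of the S16912 project, helper499)
-/

set_option autoImplicit false

universe u

open TensorProduct

noncomputable section

namespace Groth.Agent.ResProp.EF.K499

open Grp K785

variable {k : Type u} [CommRing k]

/-- `g` is the reduction modulo `c`: `X --c--> X --g--> X' → 0` is exact -/
structure PK (c : k) {X X' : Type u} [AddCommGroup X] [Module k X] [AddCommGroup X'] [Module k X'] (g : X →ₗ[k] X') :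
    Prop where
  surj : Function.Surjective g
  exact : Function.Exact (c • (LinearMap.id : X →ₗ[k] X)) g

section PK

variable {c : k} {X X' : Type u} [AddCommGroup X] [Module k X] [AddCommGroup X'] [Module k X'] {g : X →ₗ[k] X'}

theorem PK.exists_of_eq_zero (h : PK c g) {x : X} (hx : g x = 0) : ∃ y, x = c • y := by
  obtain ⟨y, hy⟩ := (h.exact x).1 hx
  exact ⟨y, hy.symm⟩

theorem PK.smul_eq_zero (h : PK c g) (y : X') : c • y = 0 := by
  obtain ⟨x, rfl⟩ := h.surj y
  rw [← map_smul]
  exact (h.exact _).2 ⟨x, rfl⟩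

theorem PK.rTensor (h : PK c g) (Z : Type u) [AddCommGroup Z] [Module k Z] : PK c (g.rTensor Z) where
  surj := LinearMap.rTensor_surjective Z h.surj
  exact := by
    have := rTensor_exact Z h.exact h.surj
    rwa [LinearMap.rTensor_smul, LinearMap.rTensor_id] at this

theorem PK.mkQ (c : k) (X : Type u) [AddCommGroup X] [Module k X] :
    PK c (LinearMap.range (c • (LinearMap.id : X →ₗ[k] X))).mkQ where
  surj := Submodule.mkQ_surjective _
  exact := by
    intro x
    rw [Submodule.mkQ_apply, Submodule.Quotient.mk_eq_zero]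
    rfl

end PK

theorem smul_tensor_eq_zero {c : k} {X Z : Type u} [AddCommGroup X] [Module k X] [AddCommGroup Z] [Module k Z]
    (h : ∀ x : X, c • x = 0) (y : X ⊗[k] Z) : c • y = 0 := by
  induction y using TensorProduct.induction_on with
  | zero => rw [smul_zero]
  | add x y hx hy => rw [smul_add, hx, hy, add_zero]
  | tmul x z => rw [TensorProduct.smul_tmul', h, TensorProduct.zero_tmul]

theorem smul_C_eq_zero {c : k} {H : Gp k} {Y : GMod H} (h : ∀ y : Y.V, c • y = 0) :
    ∀ (n : ℕ) (y : Y.C n), c • y = 0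
  | 0, y => h y
  | n + 1, y => smul_tensor_eq_zero (smul_C_eq_zero h n) y

/-- An algebra retraction `σ` of `ι` which is a morphism of coalgebras modulo `p`. -/
structure Rd (p : ℕ) {H E : Gp k} (ι : H.O →ₐc[k] E.O) (σ : E.O →ₐ[k] H.O) : Prop where
  ret : ∀ b, σ (ι b) = b
  comul : ∀ a, ∃ t : H.O ⊗[k] H.O, TensorProduct.map σ.toLinearMap σ.toLinearMap (Coalgebra.comul (R := k) a) =
    Coalgebra.comul (R := k) (σ a) + (p : k) • t
  counit : ∀ a, ∃ t : k, Coalgebra.counit (R := k) (σ a) = Coalgebra.counit (R := k) a + (p : k) • t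
  nat : ∀ t : E.O ⊗[k] E.O, IsNat t ↔ (p : H.O ⊗[k] H.O) ∣ Algebra.TensorProduct.map σ σ t

theorem dvd_of_isNat {p : ℕ} (hL : IsLb p k) {x : k} (hx : IsNat x) : (p : k) ∣ x := by
  by_contra h
  have hu := (hL.unit_of x h).pow p
  have h1 : (p : k) ∣ x ^ p := by
    refine dvd_trans ?_ (hx p)
    exact_mod_cast Nat.cast_dvd_cast (α := k) (Nat.dvd_factorial hL.prime.pos le_rfl)
  exact hL.not_unit (isUnit_of_dvd_unit h1 hu)

theorem map_toLinearMap {A A' B B' : Type u} [CommRing A] [Algebra k A] [CommRing A'] [Algebra k A'] [CommRing B]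
    [Algebra k B] [CommRing B'] [Algebra k B'] (f : A →ₐ[k] A') (g : B →ₐ[k] B') (t : A ⊗[k] B) :
    TensorProduct.map f.toLinearMap g.toLinearMap t = Algebra.TensorProduct.map f g t := rfl

theorem exists_rd {p : ℕ} (hL : IsLb p k) {H E : Gp k} {ι : H.O →ₐc[k] E.O} (h : Adm H E ι) (hr : RedModP p H) :
    ∃ σ : E.O →ₐ[k] H.O, Rd p ι σ := by
  obtain ⟨σ, h1, h2, h3, -, h5, -⟩ := K772.adm_main hL h hr
  refine ⟨σ, h1, fun a => ?_, fun a => ?_, h5⟩
  · have e1 : IsNat (Bialgebra.comulAlgHom k E.O (a - ι (σ a))) := map_mem_natI (Bialgebra.comulAlgHom k E.O).toRingHom (h2 a)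
    obtain ⟨t, ht⟩ := (h5 _).1 e1
    refine ⟨t, ?_⟩
    have e2 : Algebra.TensorProduct.map σ σ (Bialgebra.comulAlgHom k E.O (ι (σ a))) =
        Coalgebra.comul (R := k) (σ a) := by
      have e3 : Bialgebra.comulAlgHom k E.O (ι (σ a)) =
          Algebra.TensorProduct.map (ι : H.O →ₐ[k] E.O) (ι : H.O →ₐ[k] E.O) (Coalgebra.comul (R := k) (σ a)) := by
        have := LinearMap.congr_fun (CoalgHomClass.map_comp_comul (R := k) ι) (σ a)
        exact this.symm
      rw [e3, ← AlgHom.comp_apply, ← Algebra.TensorProduct.map_comp]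
      have e4 : σ.comp (ι : H.O →ₐ[k] E.O) = AlgHom.id k H.O := AlgHom.ext h1
      rw [e4, Algebra.TensorProduct.map_id]
      rfl
    rw [map_toLinearMap, ← e2]
    rw [map_sub, map_sub, sub_eq_iff_eq_add] at ht
    change Algebra.TensorProduct.map σ σ (Bialgebra.comulAlgHom k E.O a) = _
    rw [ht, add_comm]
    congr 1
    rw [Algebra.smul_def, map_natCast]
  · have e1 : IsNat (Bialgebra.counitAlgHom k E.O (a - ι (σ a))) := map_mem_natI (Bialgebra.counitAlgHom k E.O).toRingHom (h2 a)
    obtain ⟨t, ht⟩ := dvd_of_isNat hL e1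
    refine ⟨-t, ?_⟩
    have e3 : Bialgebra.counitAlgHom k E.O (ι (σ a)) = Coalgebra.counit (R := k) (σ a) :=
      LinearMap.congr_fun (CoalgHomClass.counit_comp (R := k) ι) (σ a)
    rw [map_sub, e3, sub_eq_iff_eq_add] at ht
    change _ = Bialgebra.counitAlgHom k E.O a + _
    rw [ht, smul_eq_mul]
    ring

section Bar

variable {p : ℕ} {H E : Gp k} {ι : H.O →ₐc[k] E.O} {σ : E.O →ₐ[k] H.O} (hσ : Rd p ι σ) (V : GMod E)

include hσ in
/-- the differential commutes with reductions -/
theorem Rd.phi_d (Y : GMod H) (φ : V.V →ₗ[k] Y.V) (hY : ∀ y : Y.V, (p : k) • y = 0)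
    (h0 : ∀ v : V.V, HopfRep.Comod.coact (k := k) (A := H.O) (φ v) =
      TensorProduct.map φ σ.toLinearMap (HopfRep.Comod.coact (k := k) (A := E.O) v)) (n : ℕ) (x : V.C n) :
    Y.d n (phi V Y φ σ.toLinearMap n x) = phi V Y φ σ.toLinearMap (n + 1) (V.d n x) := by
  refine K499.phi_d V Y φ σ.toLinearMap (map_one σ) h0 (fun n y a => ?_) n x
  obtain ⟨t, ht⟩ := hσ.comul a
  rw [ht, TensorProduct.tmul_add, ← TensorProduct.smul_tmul, smul_C_eq_zero hY n y, TensorProduct.zero_tmul, add_zero]
  rfl

/-- `V / p` -/
abbrev VB (p : ℕ) (V : Type u) [AddCommGroup V] [Module k V] : Type u :=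
  V ⧸ LinearMap.range ((p : k) • (LinearMap.id : V →ₗ[k] V))

/-- `V → V / p` -/
abbrev qB (p : ℕ) (V : Type u) [AddCommGroup V] [Module k V] : V →ₗ[k] VB (k := k) p V :=
  (LinearMap.range ((p : k) • (LinearMap.id : V →ₗ[k] V))).mkQ

theorem pk_qB (p : ℕ) (V : Type u) [AddCommGroup V] [Module k V] : PK (p : k) (qB (k := k) p V) := PK.mkQ _ _

/-- the coaction on `V / p` -/
def coB (p : ℕ) (σ : E.O →ₐ[k] H.O) : VB (k := k) p V.V →ₗ[k] VB (k := k) p V.V ⊗[k] H.O :=
  Submodule.liftQ _ (TensorProduct.map (qB (k := k) p V.V) σ.toLinearMap ∘ₗ V.co.coact) (by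
    rintro _ ⟨v, rfl⟩
    rw [LinearMap.mem_ker, LinearMap.smul_apply, LinearMap.id_apply, map_smul]
    exact smul_tensor_eq_zero (pk_qB p V.V).smul_eq_zero _)

theorem coB_apply (p : ℕ) (σ : E.O →ₐ[k] H.O) (v : V.V) :
    coB V p σ (qB (k := k) p V.V v) = TensorProduct.map (qB (k := k) p V.V) σ.toLinearMap (V.co.coact v) := rfl

/-- `V / p` as an `H`-module -/
def bar : GMod H where
  V := VB (k := k) p V.V
  co :=
    { coact := coB V p σ
      coassoc := by
        refine LinearMap.ext fun w => ?_
        obtain ⟨v, rfl⟩ := (pk_qB (k := k) p V.V).surj w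
        simp only [LinearMap.comp_apply, LinearEquiv.coe_coe]
        rw [coB_apply]
        have e1 : ∀ x : V.V ⊗[k] E.O, TensorProduct.assoc k _ _ _ ((coB V p σ).rTensor H.O
            (TensorProduct.map (qB (k := k) p V.V) σ.toLinearMap x)) =
            TensorProduct.map (qB (k := k) p V.V) (TensorProduct.map σ.toLinearMap σ.toLinearMap)
              (TensorProduct.assoc k _ _ _ (V.co.coact.rTensor E.O x)) := by
          intro x
          induction x using TensorProduct.induction_on with
          | zero => simp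
          | add x y hx hy => simp only [map_add, hx, hy]
          | tmul v a =>
            rw [TensorProduct.map_tmul, LinearMap.rTensor_tmul, coB_apply, LinearMap.rTensor_tmul]
            induction V.co.coact v using TensorProduct.induction_on with
            | zero => simp
            | add x y hx hy => simp only [map_add, TensorProduct.add_tmul, hx, hy]
            | tmul v b => simp
        rw [e1]
        have e2 := LinearMap.congr_fun V.co.coassoc v
        simp only [LinearMap.comp_apply, LinearEquiv.coe_coe] at e2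
        rw [e2]
        induction V.co.coact v using TensorProduct.induction_on with
        | zero => simp
        | add x y hx hy => simp only [map_add, hx, hy]
        | tmul v a =>
          rw [LinearMap.lTensor_tmul, TensorProduct.map_tmul, TensorProduct.map_tmul, LinearMap.lTensor_tmul]
          obtain ⟨t, ht⟩ := hσ.comul a
          have h3 : (p : k) • (qB (k := k) p V.V v) = 0 := (pk_qB p V.V).smul_eq_zero _
          change _ ⊗ₜ[k] TensorProduct.map σ.toLinearMap σ.toLinearMap (Coalgebra.comul (R := k) a) = _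
          rw [ht, TensorProduct.tmul_add, ← TensorProduct.smul_tmul, h3, TensorProduct.zero_tmul, add_zero]
          rfl
      counit_comp := by
        refine LinearMap.ext fun w => ?_
        obtain ⟨v, rfl⟩ := (pk_qB (k := k) p V.V).surj w
        simp only [LinearMap.comp_apply]
        rw [coB_apply]
        have e2 := LinearMap.congr_fun V.co.counit_comp v
        simp only [LinearMap.comp_apply] at e2
        have e3 : ∀ x : V.V ⊗[k] E.O, (CoalgebraStruct.counit (R := k) (A := H.O)).lTensor _
            (TensorProduct.map (qB (k := k) p V.V) σ.toLinearMap x) =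
            (qB (k := k) p V.V).rTensor k ((CoalgebraStruct.counit (R := k) (A := E.O)).lTensor _ x) := by
          intro x
          induction x using TensorProduct.induction_on with
          | zero => simp
          | add x y hx hy => simp only [map_add, hx, hy]
          | tmul v a =>
            rw [LinearMap.lTensor_tmul, TensorProduct.map_tmul, LinearMap.lTensor_tmul, LinearMap.rTensor_tmul]
            obtain ⟨t, ht⟩ := hσ.counit a
            have h3 : (p : k) • (qB (k := k) p V.V v) = 0 := (pk_qB p V.V).smul_eq_zero _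
            change _ ⊗ₜ[k] Coalgebra.counit (R := k) (σ a) = _
            rw [ht, TensorProduct.tmul_add, ← TensorProduct.smul_tmul, h3, TensorProduct.zero_tmul, add_zero]
        rw [e3, e2]
        simp }

end Bar

end Groth.Agent.ResProp.EF.K499
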