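import Groth.Agent.ResProp.EF.K499.Nat
import Mathlib.RingTheory.HopfAlgebra.Basic

/-!
# The identity of `End T` is invariant (block G2b of the S16912 project, helper499)
-/

set_option autoImplicit false

universe u

open TensorProduct

noncomputable section

namespace Groth.Agent.ResProp.EF.K499

open Grp

section One

variable {k : Type u} [CommRing k] {B : Type u} [CommRing B] [HopfAlgebra k B]
variable {T : Type u} [AddCommGroup T] [Module k T] (c : HopfRep.Comod k B T)

/-- `t ⊗ b ↦ ρ(t) b` -/
def LL : T ⊗[k] B →ₗ[k] T ⊗[k] B :=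
  (LinearMap.mul' k B).lTensor T ∘ₗ (TensorProduct.assoc k T B B).toLinearMap ∘ₗ c.coact.rTensor B

/-- `F = φ ⊗ c`, `t ⊗ b ↦ φ t ⊗ c b` -/
def GG (F : Module.End k T ⊗[k] B) : T ⊗[k] B →ₗ[k] T ⊗[k] B :=
  (TensorProduct.map (TensorProduct.lift LinearMap.id) (LinearMap.mul' k B)) ∘ₗ
    (AlgebraTensorModule.tensorTensorTensorComm k k k k (Module.End k T) B T B).toLinearMap ∘ₗ
      (TensorProduct.mk k (Module.End k T ⊗[k] B) (T ⊗[k] B) F)

theorem GG_tmul (φ : Module.End k T) (a : B) (t : T) (b : B) :
    GG (φ ⊗ₜ[k] a) (t ⊗ₜ[k] b) = φ t ⊗ₜ[k] (a * b) := by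
  simp [GG]

theorem GG_add (F F' : Module.End k T ⊗[k] B) : GG (F + F') = GG F + GG F' := by
  ext t b
  simp [GG]

theorem GG_zero : GG (0 : Module.End k T ⊗[k] B) = 0 := by
  ext t b
  simp [GG]

theorem GG_mulRight (F : Module.End k T ⊗[k] B) (b : B) (u : T ⊗[k] B) :
    GG F ((LinearMap.mulRight k b).lTensor T u) = (LinearMap.mulRight k b).lTensor T (GG F u) := by
  induction F using TensorProduct.induction_on with
  | zero => simp [GG_zero]
  | add x y hx hy => rw [GG_add, LinearMap.add_apply, hx, hy, LinearMap.add_apply, map_add]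
  | tmul φ a =>
    induction u using TensorProduct.induction_on with
    | zero => simp
    | add x y hx hy => rw [map_add, map_add, map_add, map_add, hx, hy]
    | tmul t b' => simp [GG_tmul, mul_assoc]

theorem LL_tmul (t : T) (b : B) : LL c (t ⊗ₜ[k] b) = (LinearMap.mulRight k b).lTensor T (c.coact t) := by
  simp only [LL, LinearMap.comp_apply, LinearMap.rTensor_tmul, LinearEquiv.coe_coe]
  induction c.coact t using TensorProduct.induction_on with
  | zero => simp
  | add x y hx hy => rw [TensorProduct.add_tmul, map_add, map_add, hx, hy, map_add]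
  | tmul t b' => simp

theorem LL_antipode (t : T) :
    LL c ((HopfAlgebra.antipode k (A := B)).lTensor T (c.coact t)) = t ⊗ₜ[k] (1 : B) := by
  have h1 : ∀ x : (T ⊗[k] B), LL c ((HopfAlgebra.antipode k (A := B)).lTensor T x) =
      (LinearMap.mul' k B ∘ₗ (HopfAlgebra.antipode k (A := B)).lTensor B).lTensor T
        (TensorProduct.assoc k T B B (c.coact.rTensor B x)) := by
    intro x
    induction x using TensorProduct.induction_on with
    | zero => simp
    | add x y hx hy => simp only [map_add, hx, hy]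
    | tmul t b =>
      rw [LinearMap.lTensor_tmul, LL_tmul, LinearMap.rTensor_tmul]
      induction c.coact t using TensorProduct.induction_on with
      | zero => simp
      | add x y hx hy => simp only [TensorProduct.add_tmul, map_add, hx, hy]
      | tmul t b' => simp
  rw [h1]
  have h2 := LinearMap.congr_fun c.coassoc t
  simp only [LinearMap.comp_apply, LinearEquiv.coe_coe] at h2
  rw [h2, ← LinearMap.comp_apply, ← LinearMap.lTensor_comp]
  have h3 : (LinearMap.mul' k B ∘ₗ (HopfAlgebra.antipode k (A := B)).lTensor B) ∘ₗ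
      (CoalgebraStruct.comul (R := k) (A := B)) = (Algebra.linearMap k B) ∘ₗ (CoalgebraStruct.counit (R := k) (A := B)) := by
    rw [LinearMap.comp_assoc]
    exact HopfAlgebra.mul_antipode_lTensor_comul
  rw [h3, LinearMap.lTensor_comp, LinearMap.comp_apply]
  have h4 := LinearMap.congr_fun c.counit_comp t
  simp only [LinearMap.comp_apply] at h4
  rw [h4]
  simp

variable {c}

/-- an `F ∈ End T ⊗ B` which fixes all `ρ(t)` is `1 ⊗ 1` on `T`. -/
theorem GG_one (F : Module.End k T ⊗[k] B) (hF : ∀ t : T, GG F (c.coact t) = c.coact t) (t : T) :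
    GG F (t ⊗ₜ[k] 1) = t ⊗ₜ[k] 1 := by
  have h : ∀ x : T ⊗[k] B, GG F (LL c x) = LL c x := by
    intro x
    induction x using TensorProduct.induction_on with
    | zero => simp
    | add x y hx hy => simp only [map_add, hx, hy]
    | tmul t b => rw [LL_tmul, GG_mulRight, hF]
  rw [← LL_antipode c t, h]

theorem end_ext [Module.Free k T] [Module.Finite k T] (F F' : Module.End k T ⊗[k] B)
    (h : ∀ t : T, GG F (t ⊗ₜ[k] 1) = GG F' (t ⊗ₜ[k] 1)) : F = F' := by
  classical
  let b := Module.Free.chooseBasis k T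
  have hs : ∀ G : Module.End k T ⊗[k] B, G = ∑ i, ((LinearMap.smulRightₗ (b.coord i) : T →ₗ[k] (T →ₗ[k] T))).rTensor B
      (GG G (b i ⊗ₜ[k] 1)) := by
    intro G
    induction G using TensorProduct.induction_on with
    | zero => simp [GG_zero]
    | add x y hx hy =>
      simp only [GG_add, LinearMap.add_apply, map_add, Finset.sum_add_distrib]
      rw [← hx, ← hy]
    | tmul φ a =>
      simp only [GG_tmul, LinearMap.rTensor_tmul, mul_one]
      rw [← TensorProduct.sum_tmul]
      congr 1
      refine b.ext fun j => ?_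
      simp only [LinearMap.sum_apply, LinearMap.smulRightₗ_apply_apply, Module.Basis.coord_apply, Module.Basis.repr_self]
      rw [Finset.sum_eq_single j]
      · simp
      · intro i _ hi
        rw [Finsupp.single_eq_of_ne hi, zero_smul]
      · intro hj; exact absurd (Finset.mem_univ j) hj
  rw [hs F, hs F']
  exact Finset.sum_congr rfl fun i _ => by rw [h]

end One

variable {k : Type u} [CommRing k] {H : Gp k}

/-- `1 ∈ End T` is invariant. -/
theorem coact_one {T : GMod H} (hT : IsLat T) (e : EndStr T) :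
    e.co.coact (1 : Module.End k T.V) = (1 : Module.End k T.V) ⊗ₜ[k] (1 : H.O) := by
  have := hT.free
  have := hT.fin
  refine end_ext _ _ fun t => ?_
  have h1 : ∀ t : T.V, GG (e.co.coact (1 : Module.End k T.V)) (T.co.coact t) = T.co.coact t := by
    intro t
    have h := LinearMap.congr_fun e.ev ((1 : Module.End k T.V) ⊗ₜ[k] t)
    rw [LinearMap.comp_apply, LinearMap.comp_apply, TensorProduct.lift.tmul] at h
    have h' : T.co.coact t = (TensorProduct.lift (LinearMap.id (R := k) (M := Module.End k T.V))).rTensor H.O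
        ((ComodTens.Comod.tensor e.co T.co).coact ((1 : Module.End k T.V) ⊗ₜ[k] t)) := h
    rw [ComodTens.tensor_coact_tmul] at h'
    conv_rhs => rw [h']
    simp only [GG, LinearMap.comp_apply, TensorProduct.mk_apply, LinearEquiv.coe_coe]
    rw [← LinearMap.comp_apply (LinearMap.rTensor _ _), LinearMap.rTensor, ← TensorProduct.map_comp]
    rfl
  rw [GG_one (c := T.co) _ h1, GG_tmul]
  simp

/-- `m ↦ m ⊗ x` is a morphism `M → M ⊗ N`, `x` invariant. -/
theorem isComodHom_tmulR {E : Gp k} (M N : GMod E) (x : N.V) (hx : N.co.coact x = x ⊗ₜ[k] (1 : E.O)) :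
    @Hoch.IsComodHom k _ E.O _ _ _ M.V _ _ M.co (M.tens N).V _ _ (M.tens N).co (tmulR M N x) := by
  refine LinearMap.ext fun m => ?_
  change (ComodTens.Comod.tensor M.co N.co).coact (m ⊗ₜ[k] x) = (tmulR M N x).rTensor E.O (M.co.coact m)
  rw [ComodTens.tensor_coact_tmul, hx]
  induction M.co.coact m using TensorProduct.induction_on with
  | zero => simp
  | add x y hx hy => simp only [TensorProduct.add_tmul, map_add, hx, hy]
  | tmul v a => simp [tmulR]

/-- invariance is preserved by restriction -/
theorem coact_res {E E' : Gp k} (φ : E.O →ₐc[k] E'.O) (N : GMod E) (x : N.V)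
    (hx : N.co.coact x = x ⊗ₜ[k] (1 : E.O)) : (N.res φ).co.coact x = x ⊗ₜ[k] (1 : E'.O) := by
  change TensorProduct.map LinearMap.id (φ : E.O →ₗ[k] E'.O) (N.co.coact x) = _
  rw [hx, TensorProduct.map_tmul]
  congr 1
  exact map_one φ

end Groth.Agent.ResProp.EF.K499
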