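import Groth.Agent.ResProp.EF.K499.Bar
import Groth.Agent.Hoch.K915.DSq

/-!
# The killing lemma 1.5 (block G2b of the S16912 project, helper499)
-/

set_option autoImplicit false

universe u

open TensorProduct

noncomputable section

namespace Groth.Agent.ResProp.EF.K499

open Grp K785

variable {k : Type u} [CommRing k]

section Funct

variable {E E' : Gp k}

theorem cmap_eq_phi (M N : GMod E) (f : M.V →ₗ[k] N.V) (n : ℕ) : cmap M N f n = phi M N f LinearMap.id n := by
  induction n with
  | zero => rfl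
  | succ n ih =>
    change (cmap M N f n).rTensor E.O = TensorProduct.map (phi M N f LinearMap.id n) LinearMap.id
    rw [ih]
    rfl

/-- morphisms commute with the differential -/
theorem cmap_d (M N : GMod E) (f : M.V →ₗ[k] N.V)
    (hf : @Hoch.IsComodHom k _ E.O _ _ _ M.V _ _ M.co N.V _ _ N.co f) (n : ℕ) (x : M.C n) :
    N.d n (cmap M N f n x) = cmap M N f (n + 1) (M.d n x) := by
  rw [cmap_eq_phi, cmap_eq_phi]
  refine phi_d M N f LinearMap.id rfl (fun v => ?_) (fun n y a => ?_) n x
  · exact LinearMap.congr_fun hf v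
  · rw [TensorProduct.map_id]
    rfl

/-- restriction commutes with the differential -/
theorem cres_d (φ : E.O →ₐc[k] E'.O) (M : GMod E) (n : ℕ) (x : M.C n) :
    (M.res φ).d n (cres φ M n x) = cres φ M (n + 1) (M.d n x) := by
  have h : ∀ n, cres φ M n = phi M (M.res φ) LinearMap.id (φ : E.O →ₐ[k] E'.O).toLinearMap n := by
    intro n
    induction n with
    | zero => rfl
    | succ n ih =>
      change TensorProduct.map (cres φ M n) _ = TensorProduct.map (phi M (M.res φ) _ _ n) _
      rw [ih]
  rw [h, h]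
  refine phi_d M (M.res φ) LinearMap.id _ (map_one φ) (fun v => rfl) (fun n y a => ?_) n x
  congr 1
  exact LinearMap.congr_fun (CoalgHomClass.map_comp_comul (R := k) φ) a

theorem comod_ext {A : Type u} [CommRing A] [Bialgebra k A] {V : Type u} [AddCommGroup V] [Module k V]
    {c c' : HopfRep.Comod k A V} (h : c.coact = c'.coact) : c = c' := by
  cases c
  cases c'
  subst h
  rfl

theorem isCob_congr {V : Type u} [AddCommGroup V] [Module k V] {c c' : HopfRep.Comod k E.O V}
    (h : c.coact = c'.coact) (n : ℕ) (x : (GMod.mk V (co := c) : GMod E).C (n + 1))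
    (hx : IsCob (GMod.mk V (co := c)) n x) : IsCob (GMod.mk V (co := c')) n x := by
  obtain rfl := comod_ext h
  exact hx

/-- restriction of a tensor product -/
theorem res_tens (H : Gp k) (ι : H.O →ₐc[k] E.O) (s : E.O →ₐc[k] E'.O) (M : GMod E) (N : GMod H) :
    ((M.tens (N.res ι)).res s).co.coact = ((M.res s).tens (N.res (s.comp ι))).co.coact := by
  refine TensorProduct.ext' fun v t => ?_
  change TensorProduct.map LinearMap.id (s : E.O →ₗ[k] E'.O)
      ((ComodTens.Comod.tensor M.co (GLin.comodAlong ι N.co)).coact (v ⊗ₜ[k] t)) =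
    (ComodTens.Comod.tensor (GLin.comodAlong s M.co) (GLin.comodAlong (s.comp ι) N.co)).coact (v ⊗ₜ[k] t)
  rw [ComodTens.tensor_coact_tmul, ComodTens.tensor_coact_tmul, GLin.comodAlong_coact, GLin.comodAlong_coact,
    GLin.comodAlong_coact]
  induction M.co.coact v using TensorProduct.induction_on with
  | zero => simp
  | add x y hx hy => simp only [TensorProduct.add_tmul, map_add, hx, hy]
  | tmul m a =>
    induction N.co.coact t using TensorProduct.induction_on with
    | zero => simp
    | add x y hx hy => simp only [TensorProduct.tmul_add, map_add, hx, hy]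
    | tmul n b => simp

theorem isCob_sub {M : GMod E} {n : ℕ} {x y : M.C (n + 1)} (hx : IsCob M n x) (hy : IsCob M n y) :
    IsCob M n (x + y) := by
  obtain ⟨a, rfl⟩ := hx
  obtain ⟨b, rfl⟩ := hy
  exact ⟨a + b, map_add _ _ _⟩

theorem isCob_cres (φ : E.O →ₐc[k] E'.O) {M : GMod E} {n : ℕ} {x : M.C (n + 1)} (hx : IsCob M n x) :
    IsCob (M.res φ) n (cres φ M (n + 1) x) := by
  obtain ⟨a, rfl⟩ := hx
  exact ⟨_, cres_d φ M n a⟩

theorem isCob_cmap {M N : GMod E} {f : M.V →ₗ[k] N.V}
    (hf : @Hoch.IsComodHom k _ E.O _ _ _ M.V _ _ M.co N.V _ _ N.co f) {n : ℕ} {x : M.C (n + 1)} (hx : IsCob M n x) :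
    IsCob N n (cmap M N f (n + 1) x) := by
  obtain ⟨a, rfl⟩ := hx
  exact ⟨_, cmap_d M N f hf n a⟩

theorem cmap_comp (M N P : GMod E) (f : M.V →ₗ[k] N.V) (g : N.V →ₗ[k] P.V) (n : ℕ) (x : M.C n) :
    cmap N P g n (cmap M N f n x) = cmap M P (g ∘ₗ f) n x := by
  induction n with
  | zero => rfl
  | succ n ih =>
    change (cmap N P g n).rTensor E.O ((cmap M N f n).rTensor E.O x) = (cmap M P (g ∘ₗ f) n).rTensor E.O x
    rw [← LinearMap.comp_apply, ← LinearMap.rTensor_comp]
    congr 2
    exact LinearMap.ext ih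

theorem cres_cmap (φ : E.O →ₐc[k] E'.O) (M N : GMod E) (f : M.V →ₗ[k] N.V) (n : ℕ) (x : M.C n) :
    cres φ N n (cmap M N f n x) = cmap (M.res φ) (N.res φ) f n (cres φ M n x) := by
  induction n with
  | zero => rfl
  | succ n ih =>
    change TensorProduct.map (cres φ N n) _ (TensorProduct.map (cmap M N f n) LinearMap.id x) =
      TensorProduct.map (cmap (M.res φ) (N.res φ) f n) LinearMap.id (TensorProduct.map (cres φ M n) _ x)
    rw [← LinearMap.comp_apply, ← TensorProduct.map_comp, ← LinearMap.comp_apply, ← TensorProduct.map_comp]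
    congr 2
    exact LinearMap.ext ih

/-- tensoring a morphism with a module -/
theorem isComodHom_rTensor {M N : GMod E} {f : M.V →ₗ[k] N.V}
    (hf : @Hoch.IsComodHom k _ E.O _ _ _ M.V _ _ M.co N.V _ _ N.co f) (Q : GMod E) :
    @Hoch.IsComodHom k _ E.O _ _ _ (M.tens Q).V _ _ (M.tens Q).co (N.tens Q).V _ _ (N.tens Q).co
      (f.rTensor Q.V) := by
  refine TensorProduct.ext' fun v t => ?_
  change (ComodTens.Comod.tensor N.co Q.co).coact (f v ⊗ₜ[k] t) =
    (f.rTensor Q.V).rTensor E.O ((ComodTens.Comod.tensor M.co Q.co).coact (v ⊗ₜ[k] t))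
  rw [ComodTens.tensor_coact_tmul, ComodTens.tensor_coact_tmul]
  have h1 : N.co.coact (f v) = f.rTensor E.O (M.co.coact v) := LinearMap.congr_fun hf v
  rw [h1]
  induction M.co.coact v using TensorProduct.induction_on with
  | zero => simp
  | add x y hx hy => simp only [TensorProduct.add_tmul, map_add, hx, hy]
  | tmul m a =>
    induction Q.co.coact t using TensorProduct.induction_on with
    | zero => simp
    | add x y hx hy => simp only [TensorProduct.tmul_add, map_add, hx, hy]
    | tmul n b => simp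

end Funct

section Main

variable {p : ℕ} {H E : Gp k} {ι : H.O →ₐc[k] E.O} {σ : E.O →ₐ[k] H.O}

theorem coef1_rTensor {V A A' : Type u} [AddCommGroup V] [Module k V] [CommRing A] [Algebra k A] [CommRing A']
    [Algebra k A'] (f : V →ₗ[k] k) (g : A →ₗ[k] A') (x : V ⊗[k] A) :
    coef1 (k := k) f (g.lTensor V x) = g (coef1 (k := k) f x) := by
  induction x using TensorProduct.induction_on with
  | zero => simp
  | add x y hx hy => simp only [map_add, hx, hy]
  | tmul v a => simp [coef1]

/-- 1.5 (c): a cocycle with values in a lattice has, after tensoring with `End T`, nat coefficients up to a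
coboundary. -/
theorem exists_nat (hσ : Rd p ι σ) (hK : KillModP p H) (V : GMod E) (_ : Module.Free k V.V)
    (hfin : Module.Finite k V.V) (c : V.C 2) (hc : V.d 2 c = 0) :
    ∃ (T : GMod H) (_ : IsLat T) (e : EndStr T) (u : (V.tens (e.mod.res ι)).C 1),
      ∀ f : (V.tens (e.mod.res ι)).V →ₗ[k] k,
        IsNat (coef2 (k := k) (A := E.O) f
          (cmap V (V.tens (e.mod.res ι)) (tmulR V (e.mod.res ι) 1) 2 c - (V.tens (e.mod.res ι)).d 1 u)) := by
  let M : GMod H := bar hσ V
  have hM : ∀ m : M.V, (p : k) • m = 0 := (pk_qB (k := k) p V.V).smul_eq_zero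
  have h0 : ∀ v : V.V, HopfRep.Comod.coact (k := k) (A := H.O) (V := M.V) (qB (k := k) p V.V v) =
      TensorProduct.map (qB (k := k) p V.V) σ.toLinearMap (HopfRep.Comod.coact (k := k) (A := E.O) v) :=
    fun v => coB_apply V p σ v
  have hcb : M.d 2 (phi V M (qB (k := k) p V.V) σ.toLinearMap 2 c) = 0 := by
    rw [hσ.phi_d V M _ hM h0, hc, map_zero]
  have : Module.Finite k M.V := inferInstanceAs (Module.Finite k (VB (k := k) p V.V))
  obtain ⟨T, hT, e, b, hb⟩ := hK M this hM _ hcb
  -- the reduction `V ⊗ End T → V/p ⊗ End T`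
  let N : GMod E := V.tens (e.mod.res ι)
  let NB : GMod H := M.tens e.mod
  let φ : N.V →ₗ[k] NB.V := (qB (k := k) p V.V).rTensor (Module.End k T.V)
  have hφ : PK (p : k) φ := (pk_qB (k := k) p V.V).rTensor _
  have hNB : ∀ m : NB.V, (p : k) • m = 0 := hφ.smul_eq_zero
  have h0' : ∀ v : N.V, NB.co.coact (φ v) = TensorProduct.map φ σ.toLinearMap (N.co.coact v) := by
    intro w
    induction w using TensorProduct.induction_on with
    | zero => simp
    | add x y hx hy => rw [map_add, map_add, map_add, map_add, hx, hy]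
    | tmul v t =>
      let q : V.V →ₗ[k] M.V := qB (k := k) p V.V
      refine (ComodTens.tensor_coact_tmul M.co e.co (q v) t).trans ?_
      have h3 : M.co.coact (q v) = TensorProduct.map q σ.toLinearMap (V.co.coact v) := h0 v
      have h3' : N.co.coact (v ⊗ₜ[k] t) = TensorProduct.map LinearMap.id (LinearMap.mul' k E.O)
          (AlgebraTensorModule.tensorTensorTensorComm k k k k V.V E.O (Module.End k T.V) E.O
            (V.co.coact v ⊗ₜ[k] (TensorProduct.map LinearMap.id (ι : H.O →ₗ[k] E.O) (e.co.coact t)))) :=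
        ComodTens.tensor_coact_tmul V.co (GLin.comodAlong ι e.co) v t
      rw [h3, h3']
      have hφt : ∀ (v : V.V) (t : Module.End k T.V), φ (v ⊗ₜ[k] t) = q v ⊗ₜ[k] t := fun v t => rfl
      induction V.co.coact v using TensorProduct.induction_on with
      | zero => simp
      | add x y hx hy => simp only [TensorProduct.add_tmul, map_add, hx, hy]
      | tmul m a =>
        induction e.co.coact t using TensorProduct.induction_on with
        | zero => simp
        | add x y hx hy => simp only [TensorProduct.tmul_add, map_add, hx, hy]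
        | tmul n b =>
          simp only [TensorProduct.map_tmul, AlgebraTensorModule.tensorTensorTensorComm_tmul, LinearMap.id_apply,
            LinearMap.mul'_apply, AlgHom.toLinearMap_apply, map_mul]
          have h7 : σ ((ι : H.O →ₗ[k] E.O) b) = b := hσ.ret b
          rw [h7, hφt]
  have hsurj : Function.Surjective (phi N NB φ σ.toLinearMap 1) := by
    refine TensorProduct.map_surjective hφ.surj ?_
    intro b
    exact ⟨ι b, hσ.ret b⟩
  obtain ⟨u, hu⟩ := hsurj b
  refine ⟨T, hT, e, u, fun f => ?_⟩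
  -- the reduction of the difference vanishes
  have hz : phi N NB φ σ.toLinearMap 2 (cmap V N (tmulR V (e.mod.res ι) 1) 2 c - N.d 1 u) = 0 := by
    rw [map_sub, ← hσ.phi_d N NB φ hNB h0', hu, hb, sub_eq_zero]
    have h5 : ∀ (n : ℕ) (x : V.C n), phi N NB φ σ.toLinearMap n (cmap V N (tmulR V (e.mod.res ι) 1) n x) =
        cmap M NB (tmulR M e.mod 1) n (phi V M (qB (k := k) p V.V) σ.toLinearMap n x) := by
      intro n
      induction n with
      | zero =>
        intro x
        change (qB (k := k) p V.V).rTensor (Module.End k T.V) (x ⊗ₜ[k] (1 : Module.End k T.V)) =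
          (qB (k := k) p V.V x) ⊗ₜ[k] (1 : Module.End k T.V)
        rw [LinearMap.rTensor_tmul]
      | succ n ih =>
        intro x
        change TensorProduct.map (phi N NB φ σ.toLinearMap n) σ.toLinearMap
            (TensorProduct.map (cmap V N (tmulR V (e.mod.res ι) 1) n) LinearMap.id x) =
          TensorProduct.map (cmap M NB (tmulR M e.mod 1) n) LinearMap.id
            (TensorProduct.map (phi V M (qB (k := k) p V.V) σ.toLinearMap n) σ.toLinearMap x)
        rw [← LinearMap.comp_apply, ← TensorProduct.map_comp, ← LinearMap.comp_apply, ← TensorProduct.map_comp]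
        congr 2
        exact LinearMap.ext ih
    exact h5 2 c
  rw [hσ.nat]
  set z := cmap V N (tmulR V (e.mod.res ι) 1) 2 c - N.d 1 u with hzdef
  -- `φ ⊗ σ ⊗ σ = (φ ⊗ 1 ⊗ 1)(1 ⊗ σ ⊗ σ)`
  let y : (N.V ⊗[k] H.O) ⊗[k] H.O :=
    TensorProduct.map (TensorProduct.map LinearMap.id σ.toLinearMap) σ.toLinearMap z
  have hy : ((φ.rTensor H.O).rTensor H.O) y = 0 := by
    rw [← hz]
    change TensorProduct.map (TensorProduct.map φ LinearMap.id) LinearMap.id
      (TensorProduct.map (TensorProduct.map LinearMap.id σ.toLinearMap) σ.toLinearMap z) =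
      TensorProduct.map (TensorProduct.map φ σ.toLinearMap) σ.toLinearMap z
    rw [← LinearMap.comp_apply, ← TensorProduct.map_comp, ← TensorProduct.map_comp]
    rfl
  obtain ⟨y', hy'⟩ := ((hφ.rTensor H.O).rTensor H.O).exists_of_eq_zero hy
  refine ⟨coef2 (k := k) (A := H.O) f y', ?_⟩
  have h6 : Algebra.TensorProduct.map σ σ (coef2 (k := k) (A := E.O) f z) = coef2 (k := k) (A := H.O) f y := by
    change TensorProduct.map σ.toLinearMap σ.toLinearMap ((coef1 (k := k) f).rTensor E.O z) =
      (coef1 (k := k) f).rTensor H.O (TensorProduct.map (TensorProduct.map LinearMap.id σ.toLinearMap) σ.toLinearMap z)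
    rw [LinearMap.rTensor, LinearMap.rTensor, ← LinearMap.comp_apply, ← TensorProduct.map_comp,
      ← LinearMap.comp_apply, ← TensorProduct.map_comp]
    congr 2
    refine LinearMap.ext fun x => ?_
    exact (coef1_rTensor f σ.toLinearMap x).symm
  rw [h6, hy', map_smul, Algebra.smul_def, map_natCast]

/-- **1.5, the killing lemma.** -/
theorem kill (hL : IsLb p k) (H : Gp k) (hS : ∀ E : Gp k, LiftClass2 E) (hK : KillModP p H) (hR : RedModP p H)
    (hO : ∀ E : Gp k, HasOneStep E) : Kill H := by
  intro E ι hE M c hc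
  obtain ⟨σ, hσ⟩ := exists_rd hL hE hR
  obtain ⟨V, hfree, hfin, f, hf, κ, hκ, hcob⟩ := hS E M c hc
  obtain ⟨T, hT, e, u, hu⟩ := exists_nat hσ hK V hfree hfin κ hκ
  have hTfree := hT.free
  have hTfin := hT.fin
  have hone : ∀ {E'' : Gp k} (j : H.O →ₐc[k] E''.O), (e.mod.res j).co.coact (1 : Module.End k T.V) =
      (1 : Module.End k T.V) ⊗ₜ[k] (1 : E''.O) := fun j => coact_res j e.mod _ (coact_one hT e)
  let N : GMod E := V.tens (e.mod.res ι)
  let z : N.C 2 := cmap V N (tmulR V (e.mod.res ι) 1) 2 κ - N.d 1 u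
  have hz : N.d 2 z = 0 := by
    rw [map_sub, cmap_d V N _ (isComodHom_tmulR V (e.mod.res ι) 1 (hone ι)), hκ, map_zero]
    have := @K915.HochDSq.dd_apply k _ E.O _ _ N.V _ _ N.co 1 u
    rw [zero_sub, neg_eq_zero]
    exact this
  obtain ⟨S, hSV, hSz⟩ := hO E N (inferInstanceAs (Module.Free k (V.V ⊗[k] Module.End k T.V)))
    (inferInstanceAs (Module.Finite k (V.V ⊗[k] Module.End k T.V))) z hz hu
  refine ⟨S, T, hT, e, ?_⟩
  -- the class of `z` dies on `S.E'`
  have h1 : IsCob (N.res S.ι) 1 (cres S.ι N 2 z) := by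
    clear_value z N
    subst hSV
    subst hSz
    exact ⟨S.x, S.hx⟩
  -- so does `κ ⊗ 1`
  have h2 : IsCob (N.res S.ι) 1 (cres S.ι N 2 (cmap V N (tmulR V (e.mod.res ι) 1) 2 κ)) := by
    have h3 : cmap V N (tmulR V (e.mod.res ι) 1) 2 κ = z + N.d 1 u := by simp [z]
    rw [h3, map_add]
    exact isCob_sub h1 (isCob_cres S.ι ⟨u, rfl⟩)
  -- push to `M`
  let Q : GMod E := M.tens (e.mod.res ι)
  have h4 : IsCob (Q.res S.ι) 1 (cres S.ι Q 2 (cmap M Q (tmulR M (e.mod.res ι) 1) 2 (cmap V M f 2 κ))) := by
    have h5 := isCob_cmap (M := N.res S.ι) (N := Q.res S.ι) (f := f.rTensor (Module.End k T.V)) ?_ h2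
    · rw [← cres_cmap] at h5
      rw [cmap_comp] at h5 ⊢
      exact h5
    · have h6 := isComodHom_rTensor hf (e.mod.res ι)
      refine LinearMap.ext fun x => ?_
      have h7 := LinearMap.congr_fun h6 x
      change TensorProduct.map LinearMap.id (S.ι : E.O →ₗ[k] S.E'.O) (Q.co.coact (f.rTensor (Module.End k T.V) x)) =
        (f.rTensor (Module.End k T.V)).rTensor S.E'.O
          (TensorProduct.map LinearMap.id (S.ι : E.O →ₗ[k] S.E'.O) (N.co.coact x))
      have h8 : Q.co.coact (f.rTensor (Module.End k T.V) x) =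
        (f.rTensor (Module.End k T.V)).rTensor E.O (N.co.coact x) := h7
      rw [h8]
      have h9 : ∀ w : (V.V ⊗[k] Module.End k T.V) ⊗[k] E.O,
          TensorProduct.map LinearMap.id (S.ι : E.O →ₗ[k] S.E'.O) ((f.rTensor (Module.End k T.V)).rTensor E.O w) =
            (f.rTensor (Module.End k T.V)).rTensor S.E'.O (TensorProduct.map LinearMap.id (S.ι : E.O →ₗ[k] S.E'.O) w) := by
        intro w
        induction w using TensorProduct.induction_on with
        | zero => simp
        | add x y hx hy => simp only [map_add, hx, hy]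
        | tmul m a => simp
      exact h9 _
  have h9 : IsCob (Q.res S.ι) 1 (cres S.ι Q 2 (cmap M Q (tmulR M (e.mod.res ι) 1) 2 c)) := by
    have h10 : c = (c - cmap V M f 2 κ) + cmap V M f 2 κ := by rw [sub_add_cancel]
    rw [h10, map_add, map_add]
    exact isCob_sub (isCob_cres S.ι (isCob_cmap (isComodHom_tmulR M (e.mod.res ι) 1 (hone ι)) hcob)) h4
  rw [cres_cmap] at h9
  exact isCob_congr (res_tens H ι S.ι M e.mod) 1 _ h9

end Main

end Groth.Agent.ResProp.EF.K499

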