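import Groth.Agent.ResProp.EF.Grp

/-!
# Naturality of the Hochschild differential (block G2b of the S16912 project, helper499)
-/

set_option autoImplicit false

universe u

open TensorProduct

noncomputable section

namespace Groth.Agent.ResProp.EF.K499

open Grp

variable {k : Type u} [CommRing k]

section Nat

variable {E H : Gp k} (X : GMod E) (Y : GMod H) (φ : X.V →ₗ[k] Y.V) (ρ : E.O →ₗ[k] H.O)

/-- the map on cochains induced by a linear map on the coefficients and a linear map on the coordinate rings -/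
def phi : (n : ℕ) → (X.C n →ₗ[k] Y.C n)
  | 0 => φ
  | n + 1 => TensorProduct.map (phi n) ρ

@[simp] theorem phi_zero : phi X Y φ ρ 0 = φ := rfl

@[simp] theorem phi_succ_tmul (n : ℕ) (m : X.C n) (a : E.O) :
    phi X Y φ ρ (n + 1) (m ⊗ₜ[k] a) = (phi X Y φ ρ n m) ⊗ₜ[k] (ρ a) := rfl

theorem map_map_assoc_symm {M M' A A' : Type u} [AddCommGroup M] [Module k M] [AddCommGroup M'] [Module k M']
    [AddCommGroup A] [Module k A] [AddCommGroup A'] [Module k A'] (f : M →ₗ[k] M') (g : A →ₗ[k] A') (m : M)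
    (t : A ⊗[k] A) :
    TensorProduct.map (TensorProduct.map f g) g ((TensorProduct.assoc k M A A).symm (m ⊗ₜ[k] t)) =
      (TensorProduct.assoc k M' A' A').symm (f m ⊗ₜ[k] TensorProduct.map g g t) := by
  induction t using TensorProduct.induction_on with
  | zero => simp
  | add x y hx hy => simp only [TensorProduct.tmul_add, map_add, hx, hy]
  | tmul a b => simp

/-- naturality of the differential -/
theorem phi_d (h1 : ρ 1 = 1)
    (h0 : ∀ v : X.V, HopfRep.Comod.coact (k := k) (A := H.O) (φ v) =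
      TensorProduct.map φ ρ (HopfRep.Comod.coact (k := k) (A := E.O) v))
    (hc : ∀ (n : ℕ) (y : Y.C n) (a : E.O),
      y ⊗ₜ[k] (TensorProduct.map ρ ρ (Coalgebra.comul (R := k) a)) = y ⊗ₜ[k] (Coalgebra.comul (R := k) (ρ a)))
    (n : ℕ) (x : X.C n) : Y.d n (phi X Y φ ρ n x) = phi X Y φ ρ (n + 1) (X.d n x) := by
  induction n with
  | zero =>
    change HopfRep.Comod.coact (k := k) (A := H.O) (φ x) - (φ x) ⊗ₜ[k] (1 : H.O) =
      TensorProduct.map φ ρ (HopfRep.Comod.coact (k := k) (A := E.O) x - x ⊗ₜ[k] (1 : E.O))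
    rw [h0, map_sub, TensorProduct.map_tmul, h1]
  | succ n ih =>
    induction x using TensorProduct.induction_on with
    | zero => simp
    | add x y hx hy => rw [map_add, map_add, map_add, map_add, hx, hy]
    | tmul m a =>
      change (Y.d n (phi X Y φ ρ n m)) ⊗ₜ[k] (ρ a) + ((-1 : k) ^ (n + 1)) • Hoch.tail k H.O _ (phi X Y φ ρ n m ⊗ₜ[k] ρ a) =
        phi X Y φ ρ (n + 2) ((X.d n m) ⊗ₜ[k] a + ((-1 : k) ^ (n + 1)) • Hoch.tail k E.O _ (m ⊗ₜ[k] a))
      rw [map_add, map_smul, ih]
      congr 1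
      congr 1
      rw [Hoch.tail_tmul, Hoch.tail_tmul]
      change _ = TensorProduct.map (TensorProduct.map (phi X Y φ ρ n) ρ) ρ _
      rw [map_map_assoc_symm]
      congr 1
      rw [map_sub, map_sub, TensorProduct.map_tmul, TensorProduct.map_tmul, h1, TensorProduct.tmul_sub,
        TensorProduct.tmul_sub, TensorProduct.tmul_sub, TensorProduct.tmul_sub, hc]

end Nat

end Groth.Agent.ResProp.EF.K499
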